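import Groth.Agent.Gaga.H978.Mero
import Groth.Agent.Gaga.H978.CurveChart
import Groth.Agent.Gaga.H565.ArcCurve
import Groth.Agent.Gaga.H369.Siegel
import Groth.Agent.An.H869.Conn
import Groth.Agent.An.H868.Clopen
import Groth.Agent.S4205

/-!
# The curve case: a holomorphic map to `Y(ℂ)` restricted to an algebraic arc is algebraic
-/

set_option autoImplicit false
set_option linter.dupNamespace false
open CategoryTheory AlgebraicGeometry Topology TopologicalSpace Opposite Filter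

namespace Groth.Agent.Gaga.H978.CurveAlg

open Groth.Agent.An.H863.PtsBasic Groth.Agent.An.H863.PtsCont Groth.Agent.Gaga.H978.HMap
  Groth.Agent.Gaga.H990.ChartAt Groth.Agent.Gaga.H978.HolAt Groth.Agent.Gaga.H978.Ident

variable {X Y : Scheme.{0}} [X.Over An.SC] [Y.Over An.SC]

lemma differentiableOn_eval {D : Set ℂ} (P : Polynomial (Polynomial ℂ)) {h : ℂ → ℂ}
    (hh : DifferentiableOn ℂ h D) :
    DifferentiableOn ℂ (fun z => (P.map (Polynomial.evalRingHom z)).eval (h z)) D := by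
  have : (fun z => (P.map (Polynomial.evalRingHom z)).eval (h z)) =
      fun z => ∑ i ∈ Finset.range (P.natDegree + 1), (P.coeff i).eval z * h z ^ i := by
    funext z
    rw [Polynomial.eval_map, Polynomial.eval₂_eq_sum_range]
    rfl
  rw [this]
  refine DifferentiableOn.fun_sum fun i _ => ?_
  exact ((P.coeff i).differentiable.differentiableOn).mul (hh.pow i)

/-- Compactness and separation of the complex points of a proper scheme. -/
lemma compact_t2 (N : Scheme.{0}) [N.Over An.SC] [IsProper (N ↘ An.SC)] :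
    CompactSpace (An.Pts N) ∧ T2Space (An.Pts N) :=
  (Groth.Agent.S4205.result N).1 inferInstance

/-- **The curve case.** -/
theorem curve_alg [IsProper (X ↘ An.SC)] (φ : C(An.Pts X, An.Pts Y)) (hφ : An.IsHolMap φ)
    (D : Set ℂ) (hD : IsOpen D) (hDc : Convex ℝ D) (hne : D.Nonempty) (s : ℂ → An.Pts X)
    (hs : HolOn s D) (U : X.Opens) (hU : IsAffineOpen U) (hsU : ∀ z ∈ D, (s z).pt ∈ U)
    (t : Γ(X, U)) (ht : ∀ z ∈ D, evAt (s z) U t = z)
    (halg : ∀ g : Γ(X, U), ∃ P : Polynomial (Polynomial ℂ), P ≠ 0 ∧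
      ∀ z ∈ D, (P.map (Polynomial.evalRingHom z)).eval (evAt (s z) U g) = 0)
    (V : Y.Opens) (y : Γ(Y, V)) (hV : ∀ z ∈ D, (φ (s z)).pt ∈ V) :
    ∃ P : Polynomial (Polynomial ℂ), P ≠ 0 ∧
      ∀ z ∈ D, (P.map (Polynomial.evalRingHom z)).eval (evAt (φ (s z)) V y) = 0 := by
  obtain ⟨N, _, _, _, _, ν, _, D', s', hD', ⟨z₀, hz₀⟩, hD'D, hs', hνs⟩ :=
    Groth.Agent.Gaga.H565.ArcCurve.exists_curve D hD hDc hne s hs U hU hsU t ht halg
  obtain ⟨hcomp, ht2⟩ := compact_t2 N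
  have hconn : ConnectedSpace (An.Pts N) :=
    (Groth.Agent.An.H868.Clopen.connectedSpace_iff Groth.Agent.An.H869.Conn.conn N).1 inferInstance
  choose c hc hc' using fun p : An.Pts N => CurveChart.exists_chart p
  let ψ₁ : An.Pts N → An.Pts X := An.Pts.map ν
  let ψ₂ : An.Pts N → An.Pts Y := fun q => φ (An.Pts.map ν q)
  have hψ₁ : ∀ p, ∀ z ∈ (c p).source, HolAt (fun t => ψ₁ (c p t)) z := fun p z hz =>
    (hc' p z hz).comp_holMapAt (holMapAt_map ν _)
  have hψ₂ : ∀ p, ∀ z ∈ (c p).source, HolAt (fun t => ψ₂ (c p t)) z := fun p z hz =>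
    (hψ₁ p z hz).comp_holMapAt (holMapAt_of_isHolMap hφ _)
  let f : An.Pts N → ℂ := fun q => evAt (ψ₁ q) U t
  let g : An.Pts N → ℂ := fun q => evAt (ψ₂ q) V y
  have hs0 : ψ₁ (s' z₀) = s z₀ := hνs z₀ hz₀
  have hf : ∀ p, MeromorphicOn (f ∘ c p) (c p).source := fun p z hz =>
    Mero.meromorphicAt ψ₁ (fun x => ⟨c x, hc x, hψ₁ x⟩) U t (s' z₀)
      (by rw [hs0]; exact hsU z₀ (hD'D hz₀)) (c p) (hψ₁ p) z hz
  have hg : ∀ p, MeromorphicOn (g ∘ c p) (c p).source := fun p z hz =>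
    Mero.meromorphicAt ψ₂ (fun x => ⟨c x, hc x, hψ₂ x⟩) V y (s' z₀)
      (by change (φ (ψ₁ (s' z₀))).pt ∈ V; rw [hs0]; exact hV z₀ (hD'D hz₀)) (c p) (hψ₂ p) z hz
  obtain ⟨P, hP, S, hS, hPS⟩ := Groth.Agent.Gaga.H369.Siegel.siegel c hc f g hf hg
  refine ⟨P, hP, ?_⟩
  -- the set of bad parameters is finite
  have hfs : ∀ z ∈ D', f (s' z) = z := fun z hz => by
    change evAt (An.Pts.map ν (s' z)) U t = z
    rw [hνs z hz]
    exact ht z (hD'D hz)
  have hfin : (D' ∩ s' ⁻¹' S).Finite := by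
    refine Set.Finite.subset (hS.image f) ?_
    rintro z ⟨hz, hzS⟩
    exact ⟨s' z, hzS, hfs z hz⟩
  have hO : IsOpen (D' \ (D' ∩ s' ⁻¹' S)) := hD'.sdiff hfin.isClosed
  have hinf : D'.Infinite := by
    have : (𝓝[≠] z₀).NeBot := inferInstance
    exact infinite_of_mem_nhds z₀ (hD'.mem_nhds hz₀)
  obtain ⟨z₁, hz₁⟩ : (D' \ (D' ∩ s' ⁻¹' S)).Nonempty := (hinf.sdiff hfin).nonempty
  have hdiff : DifferentiableOn ℂ (fun z => evAt (φ (s z)) V y) D := by
    intro z hz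
    have h1 : HolAt s z := HolOn.holAt hs hD hz
    have h2 := h1.comp_holMapAt (holMapAt_of_isHolMap hφ (s z))
    exact (h2.evAt (hV z hz) y).differentiableWithinAt
  intro z hz
  refine eq_zero_of_convex hD hDc (differentiableOn_eval P hdiff) (hD'D hz₁.1) ?_ hz
  filter_upwards [hO.mem_nhds hz₁] with w hw
  have hwS : s' w ∉ S := fun h => hw.2 ⟨hw.1, h⟩
  have h3 := hPS _ hwS
  rw [hfs w hw.1] at h3
  have h4 : g (s' w) = evAt (φ (s w)) V y := by
    change evAt (φ (An.Pts.map ν (s' w))) V y = _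
    rw [hνs w hw.1]
  rw [h4] at h3
  exact h3

end Groth.Agent.Gaga.H978.CurveAlg
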