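import Groth.Agent.Gaga.H978.Graph3
import Groth.Agent.Ega1.ReducedSub
import Groth.Agent.S4315

/-!
# Full faithfulness of analytification for proper schemes (reduced source)
-/

set_option autoImplicit false
set_option linter.dupNamespace false
open CategoryTheory AlgebraicGeometry Topology TopologicalSpace Opposite Filter

namespace Groth.Agent.Gaga.H978.FullFaith

open Groth.Agent.An.H863.PtsBasic Groth.Agent.An.H863.PtsCont Groth.Agent.Gaga.H978.HMap
  Groth.Agent.Gaga.H990.ChartAt Groth.Agent.Gaga.H978.HolAt Groth.Agent.Gaga.H978.Graph2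
  Groth.Agent.Gaga.H978.Graph3

variable {X Y : Scheme.{0}} [X.Over An.SC] [Y.Over An.SC]

/-- (a) -/
theorem isHolMap_mapC (f : X ⟶ Y) [f.IsOver An.SC] : An.IsHolMap (An.Pts.mapC f) :=
  isHolMap_of_holMapAt fun x => holMapAt_map f x

/-- (b) morphisms from a reduced scheme to a separated one are determined by complex points. -/
theorem hom_ext_of_pts [IsReduced X] [LocallyOfFiniteType (X ↘ An.SC)] [IsSeparated (Y ↘ An.SC)]
    (g g' : X ⟶ Y) [g.IsOver An.SC] [g'.IsOver An.SC]
    (h : ∀ a : An.Pts X, An.Pts.map g a = An.Pts.map g' a) : g = g' := by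
  let v := Y ↘ An.SC
  let k : X ⟶ Limits.pullback v v := Limits.pullback.lift g g' (by
    rw [comp_over g, comp_over g'])
  have hr : Set.range k ⊆ Set.range (Limits.pullback.diagonal v) := by
    have hcl : IsClosed (Set.range (Limits.pullback.diagonal v)) :=
      (Limits.pullback.diagonal v).isClosedEmbedding.isClosed_range
    by_contra hcon
    rw [Set.not_subset] at hcon
    obtain ⟨_, ⟨x, rfl⟩, hx⟩ := hcon
    obtain ⟨p, hp⟩ := Groth.Agent.An.H871.Basic.exists_pts_mem_of_isOpen (X := X)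
      (U := k ⁻¹' (Set.range (Limits.pullback.diagonal v))ᶜ)
      (hcl.isOpen_compl.preimage k.continuous) ⟨x, hx⟩
    apply hp
    change k (p.1 An.cpt) ∈ Set.range (Limits.pullback.diagonal v)
    have h0 : p.1 ≫ g = p.1 ≫ g' := congrArg Subtype.val (h p)
    have h2 : p.1 ≫ k = (p.1 ≫ g) ≫ Limits.pullback.diagonal v := by
      apply Limits.pullback.hom_ext
      · rw [Category.assoc, Category.assoc, Limits.pullback.diagonal_fst, Category.comp_id]
        exact congrArg (p.1 ≫ ·) (Limits.pullback.lift_fst _ _ _)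
      · rw [Category.assoc, Category.assoc, Limits.pullback.diagonal_snd, Category.comp_id, h0]
        exact congrArg (p.1 ≫ ·) (Limits.pullback.lift_snd _ _ _)
    rw [← Scheme.Hom.comp_apply, h2, Scheme.Hom.comp_apply]
    exact ⟨_, rfl⟩
  obtain ⟨l, hl⟩ := Groth.Agent.Ega1.ReducedSub.exists_factor_of_range_subset k
    (Limits.pullback.diagonal v) hr
  have h1 : l = g := by
    have := congrArg (· ≫ Limits.pullback.fst v v) hl
    simp only [Category.assoc, Limits.pullback.diagonal_fst, Category.comp_id] at this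
    rw [this]
    exact Limits.pullback.lift_fst _ _ _
  have h2 : l = g' := by
    have := congrArg (· ≫ Limits.pullback.snd v v) hl
    simp only [Category.assoc, Limits.pullback.diagonal_snd, Category.comp_id] at this
    rw [this]
    exact Limits.pullback.lift_snd _ _ _
  rw [← h1, h2]

/-- (c) holomorphic maps are algebraic. -/
theorem exists_hom [IsReduced X] [IsProper (X ↘ An.SC)] [IsProper (Y ↘ An.SC)]
    (φ : C(An.Pts X, An.Pts Y)) (hφ : An.IsHolMap φ) :
    ∃ (f : X ⟶ Y) (_ : f.IsOver An.SC), An.Pts.mapC f = φ := by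
  obtain ⟨Z, hZ, hZ'⟩ := exists_closed' φ hφ
  let P := Limits.pullback (X ↘ An.SC) (Y ↘ An.SC)
  let C : Closeds P := ⟨Z, hZ⟩
  let W : Scheme.{0} := (Scheme.IdealSheafData.vanishingIdeal C).subscheme
  let j : W ⟶ P := (Scheme.IdealSheafData.vanishingIdeal C).subschemeι
  have hjc : IsClosedImmersion j :=
    inferInstanceAs (IsClosedImmersion (Scheme.IdealSheafData.vanishingIdeal C).subschemeι)
  have hWr : IsReduced W := Groth.Agent.Ega1.ReducedSub.isReduced_subscheme_vanishingIdeal C
  have hrange : Set.range j = Z := by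
    have := Scheme.IdealSheafData.range_subschemeι (Scheme.IdealSheafData.vanishingIdeal C)
    rw [Scheme.IdealSheafData.coe_support_vanishingIdeal] at this
    exact this
  let _ : W.Over An.SC := ⟨j ≫ (P ↘ An.SC)⟩
  have hjo : j.IsOver An.SC := ⟨rfl⟩
  have hPp : IsProper (P ↘ An.SC) := by
    change IsProper (Limits.pullback.fst (X ↘ An.SC) (Y ↘ An.SC) ≫ X ↘ An.SC)
    infer_instance
  have hWp : IsProper (W ↘ An.SC) := by
    change IsProper (j ≫ (P ↘ An.SC))
    infer_instance
  let p₁ : W ⟶ X := j ≫ Limits.pullback.fst (X ↘ An.SC) (Y ↘ An.SC)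
  let p₂ : W ⟶ Y := j ≫ Limits.pullback.snd (X ↘ An.SC) (Y ↘ An.SC)
  have hp₁ : p₁.IsOver An.SC := inferInstance
  have hp₂ : p₂.IsOver An.SC := inferInstance
  have hm₁ : ∀ w, An.Pts.map p₁ w = An.Pts.map (Limits.pullback.fst (X ↘ An.SC) (Y ↘ An.SC))
      (An.Pts.map j w) := fun w => Subtype.ext (Category.assoc _ _ _).symm
  have hm₂ : ∀ w, An.Pts.map p₂ w = An.Pts.map (Limits.pullback.snd (X ↘ An.SC) (Y ↘ An.SC))
      (An.Pts.map j w) := fun w => Subtype.ext (Category.assoc _ _ _).symm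
  have hW : ∀ w : An.Pts W, φ (An.Pts.map p₁ w) = An.Pts.map p₂ w := fun w => by
    rw [hm₁, hm₂]
    refine (hZ' _).1 ?_
    rw [← hrange, An.Pts.pt_map]
    exact ⟨_, rfl⟩
  have hinj : Function.Injective (An.Pts.map p₁) := fun w w' h => by
    have h1 : An.Pts.map j w = An.Pts.map j w' := by
      apply pts_prod_ext
      · rw [← hm₁, ← hm₁, h]
      · rw [← hm₂, ← hm₂, ← hW, ← hW, h]
    have h2 : w.1 ≫ j = w'.1 ≫ j := congrArg Subtype.val h1
    exact Subtype.ext ((cancel_mono j).1 h2)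
  have hsurj : Function.Surjective (An.Pts.map p₁) := fun x => by
    have h1 : (pair x (φ x)).pt ∈ Set.range j := by
      rw [hrange, hZ', map_fst_pair, map_snd_pair]
    have h2 : pair x (φ x) ∈ Set.range (An.Pts.map j) := by
      rw [Groth.Agent.An.H871.Surj.range_map j]
      exact h1
    obtain ⟨w, hw⟩ := h2
    exact ⟨w, by rw [hm₁, hw, map_fst_pair]⟩
  have hWc := (CurveAlg.compact_t2 W).1
  have hXt := (CurveAlg.compact_t2 X).2
  let e₀ : An.Pts W ≃ An.Pts X := Equiv.ofBijective (An.Pts.map p₁) ⟨hinj, hsurj⟩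
  let e : An.Pts W ≃ₜ An.Pts X :=
    Continuous.homeoOfEquivCompactToT2 (f := e₀) (An.Pts.continuous_map p₁)
  have he : ⇑e = An.Pts.map p₁ := rfl
  have hes : ∀ x, An.Pts.map p₁ (e.symm x) = x := fun x => e.apply_symm_apply x
  have hhol : An.IsHolMap (⟨e.symm, e.symm.continuous⟩ : C(An.Pts X, An.Pts W)) := by
    refine isHolMap_of_holMapAt fun x => ?_
    change HolMapAt (fun t => e.symm t) x
    refine HolCrit.holMapAt_closedImmersion j _ x ?_
    refine HolCrit.holMapAt_pullback (X ↘ An.SC) (Y ↘ An.SC) _ x ?_ ?_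
    · have : (fun t => An.Pts.map (Limits.pullback.fst (X ↘ An.SC) (Y ↘ An.SC))
          (An.Pts.map j (e.symm t))) = fun t => t := by
        funext t
        rw [← hm₁, hes]
      rw [this]
      exact ⟨continuousAt_id, fun ψ hψ => hψ⟩
    · have : (fun t => An.Pts.map (Limits.pullback.snd (X ↘ An.SC) (Y ↘ An.SC))
          (An.Pts.map j (e.symm t))) = φ := by
        funext t
        rw [← hm₂, ← hW, hes]
      rw [this]
      exact holMapAt_of_isHolMap hφ x
  have hiso : IsIso p₁ := (Groth.Agent.S4315.result W X p₁).2 ⟨e, he, hhol⟩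
  have hinvo : (inv p₁).IsOver An.SC := ⟨by
    rw [IsIso.inv_comp_eq]
    exact (comp_over p₁ An.SC).symm⟩
  refine ⟨inv p₁ ≫ p₂, inferInstance, ?_⟩
  ext x
  change An.Pts.map (inv p₁ ≫ p₂) x = φ x
  have h1 : An.Pts.map p₁ (An.Pts.map (inv p₁) x) = x := Subtype.ext (by
    change (x.1 ≫ inv p₁) ≫ p₁ = x.1
    rw [Category.assoc, IsIso.inv_hom_id, Category.comp_id])
  have h2 : An.Pts.map (inv p₁ ≫ p₂) x = An.Pts.map p₂ (An.Pts.map (inv p₁) x) :=
    Subtype.ext (Category.assoc _ _ _).symm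
  rw [h2, ← hW, h1]

end Groth.Agent.Gaga.H978.FullFaith
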