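import Groth.Agent.Gaga.H978.LocalAlg
import Groth.Agent.Gaga.H978.Model
import Groth.Agent.Gaga.H978.Sec
import Groth.Agent.Gaga.H978.Ident2
import Groth.Agent.Gaga.H978.EtLocus

/-!
# An algebraic correspondence containing a piece of the graph of a holomorphic map
-/

set_option autoImplicit false
set_option linter.dupNamespace false
open CategoryTheory AlgebraicGeometry Topology TopologicalSpace Opposite Filter

namespace Groth.Agent.Gaga.H978.Graph1

open Groth.Agent.An.H863.PtsBasic Groth.Agent.An.H863.PtsCont Groth.Agent.Gaga.H978.HMap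
  Groth.Agent.Gaga.H990.ChartAt Groth.Agent.Gaga.H978.HolAt Groth.Agent.Gaga.H978.Ident
  Groth.Agent.Gaga.H978.SpecPts

variable {X Y : Scheme.{0}} [X.Over An.SC] [Y.Over An.SC]

open Groth.Agent.Gaga.H66.HolRing in
/-- Pulling back sections along a holomorphic map `s : D → X(ℂ)`, as a ring homomorphism to
holomorphic functions on `D`. -/
noncomputable def pullHol {n : ℕ} {D : Set (Fin n → ℂ)} (U : X.Opens) (s : (Fin n → ℂ) → An.Pts X)
    (hs : ∀ z ∈ D, HolAt s z) (hU : ∀ z ∈ D, (s z).pt ∈ U) : Γ(X, U) →+* Hol D where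
  toFun g := ⟨fun z => evHom (s z) U (hU z z.2) g, fun z => evAt (s z) U g,
    fun z hz => ((hs z hz).evAt (hU z hz) g).differentiableWithinAt,
    fun z => (evAt_of_mem (hU z z.2) g).symm⟩
  map_one' := Subtype.ext (funext fun z => map_one (evHom (s z) U (hU z z.2)))
  map_mul' a b := Subtype.ext (funext fun z => map_mul (evHom (s z) U (hU z z.2)) a b)
  map_zero' := Subtype.ext (funext fun z => map_zero (evHom (s z) U (hU z z.2)))
  map_add' a b := Subtype.ext (funext fun z => map_add (evHom (s z) U (hU z z.2)) a b)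

open Groth.Agent.Gaga.H66.HolRing in
lemma ev_pullHol {n : ℕ} {D : Set (Fin n → ℂ)} (U : X.Opens) (s : (Fin n → ℂ) → An.Pts X)
    (hs : ∀ z ∈ D, HolAt s z) (hU : ∀ z ∈ D, (s z).pt ∈ U) (g : Γ(X, U)) (z : D) :
    ev z (pullHol U s hs hU g) = evAt (s z) U g := by
  rw [evAt_of_mem (hU z z.2)]
  rfl

open Groth.Agent.Gaga.H66.HolRing in
lemma pullHol_comp {n : ℕ} {D : Set (Fin n → ℂ)} (U : X.Opens) (s : (Fin n → ℂ) → An.Pts X)
    (hs : ∀ z ∈ D, HolAt s z) (hU : ∀ z ∈ D, (s z).pt ∈ U) :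
    (pullHol U s hs hU).comp (strU U) = algebraMap ℂ (Hol D) := by
  refine RingHom.ext fun c => ext_ev fun z => ?_
  rw [RingHom.comp_apply, ev_pullHol, evAt_of_mem (hU z z.2), ev_strU]
  rfl

/-- The first step: near some point of `X(ℂ)`, the graph of the holomorphic map `φ` is covered by
an integral affine scheme `W`, etale over an affine space, with maps `p` to `X` and `q` to `Y`. -/
theorem exists_local [IsIntegral X] [IsProper (X ↘ An.SC)] [LocallyOfFiniteType (Y ↘ An.SC)]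
    (φ : C(An.Pts X, An.Pts Y)) (hφ : An.IsHolMap φ) :
    ∃ (S : Type) (_ : CommRing S) (_ : IsDomain S) (κ : ℂ →+* S) (n : ℕ)
      (θ : MvPolynomial (Fin n) ℂ →+* S) (p : SpecK κ ⟶ X) (_ : p.IsOver An.SC)
      (q : SpecK κ ⟶ Y) (_ : q.IsOver An.SC), θ.Etale ∧ κ = θ.comp MvPolynomial.C ∧
      ∃ (O : Set (An.Pts (SpecK κ))) (O' : Set (An.Pts X)), IsOpen O ∧ O.Nonempty ∧
        (∀ w ∈ O, φ (An.Pts.map p w) = An.Pts.map q w) ∧ IsOpen O' ∧ O'.Nonempty ∧
        ∀ x ∈ O', ∃ w ∈ O, An.Pts.map p w = x := by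
  classical
  obtain ⟨n, U, hU, π, hUne, hπC, hπet, hrel⟩ := EtLocus.exists_etale_chart X
  obtain ⟨x₀, hx₀⟩ := exists_pt_mem_of_isOpen U.2 hUne
  obtain ⟨V, hVa, hV₀, -⟩ := exists_isAffineOpen_mem_and_subset (x := (φ x₀).pt) (U := ⊤) trivial
  obtain ⟨c, hx₀c, hcU, hcoord, hchol⟩ := CurveChart.exists_param_affine U hU π hπC hπet x₀ hx₀
  set z₀ := c.symm x₀ with hz₀
  have hz₀s : z₀ ∈ c.source := c.map_target hx₀c
  have hcz₀ : c z₀ = x₀ := c.right_inv hx₀c
  have hVev : ∀ᶠ z in 𝓝 z₀, (φ (c z)).pt ∈ V := by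
    have h1 : ContinuousAt (fun z => φ (c z)) z₀ :=
      φ.continuous.continuousAt.comp (c.continuousAt hz₀s)
    refine h1.eventually ((An.Pts.isOpen_preimage_pt V).mem_nhds ?_)
    change (φ (c z₀)).pt ∈ V
    rw [hcz₀]
    exact hV₀
  obtain ⟨ε, hε, hball⟩ := Metric.eventually_nhds_iff_ball.1
    (hVev.and (c.open_source.eventually_mem hz₀s))
  let Di : Fin n → Set ℂ := fun i => Metric.ball (z₀ i) ε
  let D : Set (Fin n → ℂ) := Set.pi Set.univ Di
  have hDball : D = Metric.ball z₀ ε := (ball_pi z₀ hε).symm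
  have hDo : IsOpen D := by rw [hDball]; exact Metric.isOpen_ball
  have hDc : Convex ℝ D := by rw [hDball]; exact convex_ball z₀ ε
  have hz₀D : z₀ ∈ D := by rw [hDball]; exact Metric.mem_ball_self hε
  have hDs : ∀ z ∈ D, z ∈ c.source := fun z hz => (hball z (by rw [← hDball]; exact hz)).2
  have hDV : ∀ z ∈ D, (φ (c z)).pt ∈ V := fun z hz => (hball z (by rw [← hDball]; exact hz)).1
  have hφc : ∀ z ∈ D, HolAt (fun z => φ (c z)) z := fun z hz =>
    (hchol z (hDs z hz)).comp_holMapAt (holMapAt_of_isHolMap hφ _)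
  -- the two homomorphisms
  have hcs : ∀ z ∈ D, HolAt c z := fun z hz => hchol z (hDs z hz)
  have hcsU : ∀ z ∈ D, (c z).pt ∈ U := fun z hz => hcU z (hDs z hz)
  let α := pullHol (D := D) U c hcs hcsU
  let β := pullHol (D := D) V (fun z => φ (c z)) hφc hDV
  have hft1 : (strU U).FiniteType := Groth.Agent.An.H867.Nhds.finiteType_strU U hU
  have hft2 : (strU V).FiniteType := Groth.Agent.An.H867.Nhds.finiteType_strU V hVa
  have halgα : ∀ g, IsAlgebraic (MvPolynomial (Fin n) ℂ) (α g) := by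
    intro g
    rw [Groth.Agent.Gaga.H66.HolRing.isAlgebraic_iff]
    obtain ⟨Q, m, hQ, hm⟩ := hrel g
    refine ⟨Q, ?_, fun z => ?_⟩
    · rintro rfl
      rw [Polynomial.coeff_zero, map_zero] at hm
      have h1 := hm.map (evHom (c z₀) U (hcU z₀ hz₀s))
      rw [map_zero] at h1
      exact h1.ne_zero rfl
    · have h2 : (α g).1 z = evAt (c z) U g := ev_pullHol U c hcs hcsU g z
      rw [h2]
      exact LocalAlg.eval_relation π hπC _ (hcU z (hDs z z.2)) _ (hcoord z (hDs z z.2)) hQ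
  have halgβ : ∀ y, IsAlgebraic (MvPolynomial (Fin n) ℂ) (β y) := by
    intro y
    rw [Groth.Agent.Gaga.H66.HolRing.isAlgebraic_iff]
    obtain ⟨P, hP, hPz⟩ := LocalAlg.local_alg φ hφ U hU π hπC hrel c Di
      (fun i => Metric.isOpen_ball) (fun i => convex_ball _ _)
      (fun i => ⟨z₀ i, Metric.mem_ball_self hε⟩) (fun z hz => hcU z (hDs z hz))
      (fun z hz => hcoord z (hDs z hz)) (fun z hz => hchol z (hDs z hz)) V hDV y
    refine ⟨P, hP, fun z => ?_⟩
    have h2 : (β y).1 z = evAt (φ (c z)) V y := ev_pullHol V (fun z => φ (c z)) hφc hDV y z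
    rw [h2]
    exact hPz z z.2
  obtain ⟨R, _, _, θ, a, b, ρ, r, hr, het, hρa, hρb, hρθ, hρc, hρs, haκ, hbκ⟩ :=
    Model.exists_model hDo hDc ⟨z₀, hz₀D⟩ (strU U) (strU V) hft1 hft2 α β
      (pullHol_comp U c hcs hcsU) (pullHol_comp V (fun z => φ (c z)) hφc hDV) halgα halgβ
  have hSdom : IsDomain (Localization.Away r) :=
    IsLocalization.isDomain_localization (powers_le_nonZeroDivisors_of_noZeroDivisors hr)
  let κ : ℂ →+* Localization.Away r := (algebraMap R (Localization.Away r)).comp (θ.comp MvPolynomial.C)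
  let χp : Γ(X, U) →+* Localization.Away r := (algebraMap R (Localization.Away r)).comp a
  let χq : Γ(Y, V) →+* Localization.Away r := (algebraMap R (Localization.Away r)).comp b
  have hχp : χp.comp (strU U) = κ := by
    rw [RingHom.comp_assoc, haκ]
  have hχq : χq.comp (strU V) = κ := by
    rw [RingHom.comp_assoc, hbκ]
  have hp := mor_isOver κ hU χp hχp
  have hq := mor_isOver κ hVa χq hχq
  -- a point where `r` does not vanish
  obtain ⟨z₁, hz₁⟩ : ∃ z₁ : D, ρ z₁ r ≠ 0 := by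
    by_contra hcon
    push Not at hcon
    exact hr (hρs r hcon)
  obtain ⟨sg, hsgc, hsg⟩ := Sec.exists_section hDo ρ hρc (θ.comp MvPolynomial.C)
    (fun z c => by rw [RingHom.comp_apply, hρθ, MvPolynomial.eval_C]) r z₁ hz₁
  -- etale parametrisation of `W` at the point `sg z₁`
  let Θ : MvPolynomial (Fin n) ℂ →+* Γ(SpecK κ, ⊤) :=
    (e κ).inv.hom.comp ((algebraMap R (Localization.Away r)).comp θ)
  have hΘC : Θ.comp MvPolynomial.C = An.strHom (SpecK κ) := by
    rw [strHom_SpecK]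
    rfl
  have hΘet : Θ.Etale := by
    refine RingHom.Etale.stableUnderComposition _ _ het (RingHom.Etale.of_bijective ?_)
    exact (ConcreteCategory.isIso_iff_bijective (e κ).inv).1 inferInstance
  obtain ⟨c₁, hc₁, hc₁q, -⟩ := EtMor.exists_param_open (𝟙 (SpecK κ)) Θ hΘC hΘet (sg z₁)
  rw [An.Pts.map_id] at hc₁
  have hcoord₁ : ∀ z ∈ c₁.source, ∀ i, sh κ (c₁ z) (algebraMap R _ (θ (MvPolynomial.X i))) = z i := by
    intro z hz i
    obtain ⟨q', hq', hq''⟩ := hc₁q z hz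
    rw [An.Pts.map_id] at hq'
    rw [← hq', ← hq'' i, sh_apply, evAt_top]
    rfl
  -- near `z₁` the section and the parametrisation agree
  have hcoordsg : ∀ᶠ z in 𝓝 z₁.1, ∀ i, sh κ (sg z) (algebraMap R _ (θ (MvPolynomial.X i))) = z i := by
    filter_upwards [hsg] with z hz i
    obtain ⟨hzD, hz⟩ := hz
    rw [hz, hρθ, MvPolynomial.eval_X]
  have hagree : ∀ᶠ z in 𝓝 z₁.1, z ∈ c₁.source ∧ c₁ z = sg z := by
    filter_upwards [hsgc.eventually (c₁.open_target.mem_nhds hc₁), hcoordsg] with z hz hz'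
    have h1 : c₁.symm (sg z) = z := by
      funext i
      rw [← hcoord₁ _ (c₁.map_target hz) i, c₁.right_inv hz, hz' i]
    refine ⟨by rw [← h1]; exact c₁.map_target hz, ?_⟩
    rw [← h1, c₁.right_inv hz, h1]
  have hmapp : ∀ z (hzD : z ∈ D), (∀ a : R, sh κ (sg z) (algebraMap R _ a) = ρ ⟨z, hzD⟩ a) →
      An.Pts.map (mor κ hU χp) (sg z) = c z := by
    intro z hzD hz
    refine Groth.Agent.An.H868.Chart.ext_of_ev hU (map_mor_mem κ hU χp _) (hcU z (hDs z hzD))
      fun f => ?_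
    rw [← evAt_of_mem (map_mor_mem κ hU χp _), evAt_map_mor, ← evAt_of_mem (hcU z (hDs z hzD))]
    change sh κ (sg z) (algebraMap R _ (a f)) = _
    rw [hz, hρa]
    exact ev_pullHol U c hcs hcsU f ⟨z, hzD⟩
  have hmapq : ∀ z (hzD : z ∈ D), (∀ a : R, sh κ (sg z) (algebraMap R _ a) = ρ ⟨z, hzD⟩ a) →
      An.Pts.map (mor κ hVa χq) (sg z) = φ (c z) := by
    intro z hzD hz
    refine Groth.Agent.An.H868.Chart.ext_of_ev hVa (map_mor_mem κ hVa χq _) (hDV z hzD)
      fun f => ?_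
    rw [← evAt_of_mem (map_mor_mem κ hVa χq _), evAt_map_mor, ← evAt_of_mem (hDV z hzD)]
    change sh κ (sg z) (algebraMap R _ (b f)) = _
    rw [hz, hρb]
    exact ev_pullHol V (fun z => φ (c z)) hφc hDV f ⟨z, hzD⟩
  obtain ⟨δ, hδ, hδball⟩ := Metric.eventually_nhds_iff_ball.1 (hagree.and hsg)
  have hB1 : Metric.ball z₁.1 δ ⊆ c₁.source := fun z hz => (hδball z hz).1.1
  have hBD : Metric.ball z₁.1 δ ⊆ D := fun z hz => (hδball z hz).2.1
  refine ⟨Localization.Away r, inferInstance, hSdom, κ, n, (algebraMap R _).comp θ,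
    mor κ hU χp, hp, mor κ hVa χq, hq, het, rfl, c₁ '' Metric.ball z₁.1 δ, c '' Metric.ball z₁.1 δ,
    c₁.isOpen_image_of_subset_source Metric.isOpen_ball hB1,
    ⟨_, z₁.1, Metric.mem_ball_self hδ, rfl⟩, ?_,
    c.isOpen_image_of_subset_source Metric.isOpen_ball (fun z hz => hDs z (hBD hz)),
    ⟨_, z₁.1, Metric.mem_ball_self hδ, rfl⟩, ?_⟩
  · rintro _ ⟨z, hz, rfl⟩
    obtain ⟨⟨h1, h2⟩, h3, h4⟩ := hδball z hz
    rw [h2, hmapp z h3 h4, hmapq z h3 h4]
  · rintro _ ⟨z, hz, rfl⟩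
    obtain ⟨⟨h1, h2⟩, h3, h4⟩ := hδball z hz
    exact ⟨c₁ z, ⟨z, hz, rfl⟩, by rw [h2, hmapp z h3 h4]⟩

end Groth.Agent.Gaga.H978.Graph1
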