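import Groth.Agent.Gaga.H978.Graph1
import Groth.Agent.An.H867.Closure
import Groth.Agent.An.H871.Surj
import Groth.Agent.An.H863.PtsPullback
import Groth.Agent.An.H877.Sep

/-!
# The graph of a holomorphic map between proper schemes is Zariski closed (integral source)
-/

set_option autoImplicit false
set_option linter.dupNamespace false
open CategoryTheory AlgebraicGeometry Topology TopologicalSpace Opposite Filter

namespace Groth.Agent.Gaga.H978.Graph2

open Groth.Agent.An.H863.PtsBasic Groth.Agent.An.H863.PtsCont Groth.Agent.Gaga.H978.HMap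
  Groth.Agent.Gaga.H990.ChartAt Groth.Agent.Gaga.H978.HolAt Groth.Agent.Gaga.H978.Ident
  Groth.Agent.Gaga.H978.SpecPts

variable {X Y : Scheme.{0}} [X.Over An.SC] [Y.Over An.SC]

/-- Complex points of a product. -/
lemma pts_prod_ext {z z' : An.Pts (Limits.pullback (X ↘ An.SC) (Y ↘ An.SC))}
    (h1 : An.Pts.map (Limits.pullback.fst (X ↘ An.SC) (Y ↘ An.SC)) z =
      An.Pts.map (Limits.pullback.fst (X ↘ An.SC) (Y ↘ An.SC)) z')
    (h2 : An.Pts.map (Limits.pullback.snd (X ↘ An.SC) (Y ↘ An.SC)) z =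
      An.Pts.map (Limits.pullback.snd (X ↘ An.SC) (Y ↘ An.SC)) z') : z = z' := by
  apply Subtype.ext
  apply Limits.pullback.hom_ext
  · exact congrArg Subtype.val h1
  · exact congrArg Subtype.val h2

instance locallyOfFiniteType_prod [LocallyOfFiniteType (X ↘ An.SC)] [LocallyOfFiniteType (Y ↘ An.SC)] :
    LocallyOfFiniteType (Limits.pullback (X ↘ An.SC) (Y ↘ An.SC) ↘ An.SC) := by
  change LocallyOfFiniteType (Limits.pullback.fst (X ↘ An.SC) (Y ↘ An.SC) ≫ X ↘ An.SC)
  infer_instance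

/-- **The graph of a holomorphic map is Zariski closed**, integral source. -/
theorem exists_closed [IsIntegral X] [IsProper (X ↘ An.SC)] [IsProper (Y ↘ An.SC)]
    (φ : C(An.Pts X, An.Pts Y)) (hφ : An.IsHolMap φ) :
    ∃ Z : Set ↥(Limits.pullback (X ↘ An.SC) (Y ↘ An.SC)), IsClosed Z ∧
      ∀ z : An.Pts (Limits.pullback (X ↘ An.SC) (Y ↘ An.SC)), z.pt ∈ Z ↔
        φ (An.Pts.map (Limits.pullback.fst (X ↘ An.SC) (Y ↘ An.SC)) z) =
          An.Pts.map (Limits.pullback.snd (X ↘ An.SC) (Y ↘ An.SC)) z := by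
  classical
  have hXn : IsLocallyNoetherian X := Groth.Agent.An.H877.Sep.isLocallyNoetherian X
  have hT2 : T2Space (An.Pts Y) := (CurveAlg.compact_t2 Y).2
  obtain ⟨S, _, _, κ, n, θ, p, _, q, _, het, hκ, O, O', hO, hOne, hOeq, hO', hO'ne, hOO'⟩ :=
    Graph1.exists_local φ hφ
  -- the étale model
  have hft : κ.FiniteType := by
    rw [hκ]
    have h1 : θ.FiniteType := by
      have := het.toAlgebra
      let _ := θ.toAlgebra
      exact (inferInstance : Algebra.FiniteType (MvPolynomial (Fin n) ℂ) S)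
    exact h1.comp (RingHom.finiteType_algebraMap.2
      (inferInstance : Algebra.FiniteType ℂ (MvPolynomial (Fin n) ℂ)))
  have hlft : LocallyOfFiniteType (SpecK κ ↘ An.SC) := by
    change LocallyOfFiniteType (Spec.map (CommRingCat.ofHom κ))
    exact (HasRingHomProperty.Spec_iff (P := @LocallyOfFiniteType)).2 hft
  have hint : IsIntegral (SpecK κ) := inferInstanceAs (IsIntegral (Spec (CommRingCat.of S)))
  have hconn : ConnectedSpace (An.Pts (SpecK κ)) :=
    (Groth.Agent.An.H868.Clopen.connectedSpace_iff Groth.Agent.An.H869.Conn.conn _).1 inferInstance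
  let Θ : MvPolynomial (Fin n) ℂ →+* Γ(SpecK κ, ⊤) := (e κ).inv.hom.comp θ
  have hΘC : Θ.comp MvPolynomial.C = An.strHom (SpecK κ) := by
    rw [strHom_SpecK]
    conv_rhs => rw [hκ]
    rfl
  have hΘet : Θ.Etale := by
    refine RingHom.Etale.stableUnderComposition _ _ het (RingHom.Etale.of_bijective ?_)
    exact (ConcreteCategory.isIso_iff_bijective (e κ).inv).1 inferInstance
  have hall : ∀ w : An.Pts (SpecK κ), φ (An.Pts.map p w) = An.Pts.map q w := by
    refine Ident2.ident₂ (E := Fin n → ℂ) (fun w => φ (An.Pts.map p w)) (fun w => An.Pts.map q w) (fun w => ?_)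
      hO hOne hOeq
    obtain ⟨c, hc, -, hc'⟩ := EtMor.exists_param_open (𝟙 (SpecK κ)) Θ hΘC hΘet w
    rw [An.Pts.map_id] at hc
    refine ⟨c, hc, fun z hz => ⟨?_, ?_⟩⟩
    · exact ((hc' z hz).comp_holMapAt (holMapAt_map p _)).comp_holMapAt (holMapAt_of_isHolMap hφ _)
    · exact (hc' z hz).comp_holMapAt (holMapAt_map q _)
  -- the closure
  let P := Limits.pullback (X ↘ An.SC) (Y ↘ An.SC)
  let k : SpecK κ ⟶ P := Limits.pullback.lift p q (by rw [comp_over p, comp_over q])
  have hk : k.IsOver An.SC := ⟨by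
    change k ≫ Limits.pullback.fst (X ↘ An.SC) (Y ↘ An.SC) ≫ (X ↘ An.SC) = _
    rw [Limits.pullback.lift_fst_assoc, comp_over p]⟩
  have hkp : ∀ w, An.Pts.map (Limits.pullback.fst (X ↘ An.SC) (Y ↘ An.SC)) (An.Pts.map k w) =
      An.Pts.map p w := fun w => Subtype.ext (by
    change (w.1 ≫ k) ≫ Limits.pullback.fst (X ↘ An.SC) (Y ↘ An.SC) = w.1 ≫ p
    rw [Category.assoc, Limits.pullback.lift_fst])
  have hkq : ∀ w, An.Pts.map (Limits.pullback.snd (X ↘ An.SC) (Y ↘ An.SC)) (An.Pts.map k w) =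
      An.Pts.map q w := fun w => Subtype.ext (by
    change (w.1 ≫ k) ≫ Limits.pullback.snd (X ↘ An.SC) (Y ↘ An.SC) = w.1 ≫ q
    rw [Category.assoc, Limits.pullback.lift_snd])
  have : CompactSpace ↥(SpecK κ) := inferInstanceAs (CompactSpace (Spec (CommRingCat.of S)))
  have hsep : IsSeparated (P ↘ An.SC) := by
    change IsSeparated (Limits.pullback.fst (X ↘ An.SC) (Y ↘ An.SC) ≫ X ↘ An.SC)
    infer_instance
  have hPs : P.IsSeparated := ⟨by
    have : Limits.terminal.from P = (P ↘ An.SC) ≫ Limits.terminal.from An.SC := by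
      apply Limits.terminal.hom_ext
    rw [this]
    infer_instance⟩
  have hqc : QuasiCompact k := inferInstance
  let Z : Set ↥P := closure (Set.range k)
  have hZcl : IsClosed Z := isClosed_closure
  -- points of `Z` are on the graph
  have hZ1 : ∀ z : An.Pts P, z.pt ∈ Z →
      φ (An.Pts.map (Limits.pullback.fst (X ↘ An.SC) (Y ↘ An.SC)) z) =
          An.Pts.map (Limits.pullback.snd (X ↘ An.SC) (Y ↘ An.SC)) z := by
    intro z hz
    have h1 : z ∈ closure (An.Pts.pt ⁻¹' (Set.range k)) :=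
      Groth.Agent.An.H867.Closure.mem_closure_pts
        (Groth.Agent.An.H871.Surj.isLocallyConstructible_range k) z hz
    rw [← Groth.Agent.An.H871.Surj.range_map k] at h1
    have h2 : IsClosed {z : An.Pts P |
        φ (An.Pts.map (Limits.pullback.fst (X ↘ An.SC) (Y ↘ An.SC)) z) =
          An.Pts.map (Limits.pullback.snd (X ↘ An.SC) (Y ↘ An.SC)) z} :=
      isClosed_eq (φ.continuous.comp (An.Pts.continuous_map _)) (An.Pts.continuous_map _)
    refine closure_minimal ?_ h2 h1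
    rintro _ ⟨w, rfl⟩
    change φ _ = _
    rw [hkp, hkq]
    exact hall w
  -- `Z` surjects onto `X`
  have hfstcl : IsClosedMap (Limits.pullback.fst (X ↘ An.SC) (Y ↘ An.SC)) :=
    (Limits.pullback.fst (X ↘ An.SC) (Y ↘ An.SC)).isClosedMap
  have himg : (Limits.pullback.fst (X ↘ An.SC) (Y ↘ An.SC)) '' Z = Set.univ := by
    by_contra hne
    have hopen : IsOpen ((Limits.pullback.fst (X ↘ An.SC) (Y ↘ An.SC)) '' Z)ᶜ :=
      (hfstcl Z hZcl).isOpen_compl
    have hnonempty : ((Limits.pullback.fst (X ↘ An.SC) (Y ↘ An.SC)) '' Z)ᶜ.Nonempty :=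
      Set.nonempty_compl.2 hne
    have hdense : Dense ((Limits.pullback.fst (X ↘ An.SC) (Y ↘ An.SC)) '' Z)ᶜ :=
      hopen.dense hnonempty
    have hdense' := (Groth.Agent.An.H867.Closure.dense_iff
      (Groth.Agent.An.H877.Sep.isConstructible_of_isOpen X hopen).isLocallyConstructible).1 hdense
    obtain ⟨x, hx, hx'⟩ := hdense'.inter_open_nonempty O' hO' hO'ne
    obtain ⟨w, -, rfl⟩ := hOO' x hx
    apply hx'
    refine ⟨(An.Pts.map k w).pt, ?_, ?_⟩
    · rw [An.Pts.pt_map]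
      exact subset_closure ⟨_, rfl⟩
    · rw [← An.Pts.pt_map, hkp]
  have hZ2 : ∀ x : An.Pts X, ∃ z : An.Pts P, z.pt ∈ Z ∧
      An.Pts.map (Limits.pullback.fst (X ↘ An.SC) (Y ↘ An.SC)) z = x := by
    intro x
    obtain ⟨z, hz, hzx⟩ : x.pt ∈ (Limits.pullback.fst (X ↘ An.SC) (Y ↘ An.SC)) '' Z := by
      rw [himg]; trivial
    have hcl : IsClosed (Z ∩ (Limits.pullback.fst (X ↘ An.SC) (Y ↘ An.SC)) ⁻¹' {x.pt}) :=
      hZcl.inter ((isClosed_pt x).preimage
        (Limits.pullback.fst (X ↘ An.SC) (Y ↘ An.SC)).continuous)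
    obtain ⟨z', hz', hz''⟩ := exists_pt_mem_of_isClosed hcl ⟨z, hz, hzx⟩
    refine ⟨z', hz', pt_injective ?_⟩
    rw [An.Pts.pt_map]
    exact hz''
  refine ⟨Z, hZcl, fun z => ⟨hZ1 z, fun h => ?_⟩⟩
  obtain ⟨z', hz', hzz'⟩ := hZ2 (An.Pts.map (Limits.pullback.fst (X ↘ An.SC) (Y ↘ An.SC)) z)
  have h3 := hZ1 z' hz'
  rw [hzz', h] at h3
  rw [pts_prod_ext hzz'.symm h3]
  exact hz'

end Groth.Agent.Gaga.H978.Graph2
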