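import Groth.Agent.Gaga.H978.Graph2
import Groth.Agent.Gaga.H978.HolCrit
import Groth.Agent.Fga.IntegralSub

/-!
# The graph of a holomorphic map between proper schemes is Zariski closed
-/

set_option autoImplicit false
set_option linter.dupNamespace false
open CategoryTheory AlgebraicGeometry Topology TopologicalSpace Opposite Filter

namespace Groth.Agent.Gaga.H978.Graph3

open Groth.Agent.An.H863.PtsBasic Groth.Agent.An.H863.PtsCont Groth.Agent.Gaga.H978.HMap
  Groth.Agent.Gaga.H990.ChartAt Groth.Agent.Gaga.H978.HolAt Groth.Agent.Gaga.H978.Graph2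

variable {X Y : Scheme.{0}} [X.Over An.SC] [Y.Over An.SC]

/-- The point `(x, y)` of the product. -/
noncomputable def pair (x : An.Pts X) (y : An.Pts Y) : An.Pts (Limits.pullback (X ↘ An.SC) (Y ↘ An.SC)) :=
  ⟨Limits.pullback.lift x.1 y.1 (x.2.trans y.2.symm), by
    change _ ≫ (Limits.pullback.fst (X ↘ An.SC) (Y ↘ An.SC) ≫ X ↘ An.SC) = _
    rw [Limits.pullback.lift_fst_assoc]
    exact x.2⟩

lemma map_fst_pair (x : An.Pts X) (y : An.Pts Y) :
    An.Pts.map (Limits.pullback.fst (X ↘ An.SC) (Y ↘ An.SC)) (pair x y) = x :=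
  Subtype.ext (Limits.pullback.lift_fst _ _ _)

lemma map_snd_pair (x : An.Pts X) (y : An.Pts Y) :
    An.Pts.map (Limits.pullback.snd (X ↘ An.SC) (Y ↘ An.SC)) (pair x y) = y :=
  Subtype.ext (Limits.pullback.lift_snd _ _ _)

/-- Composition of holomorphic maps with morphisms. -/
lemma isHolMap_comp_mapC {X' : Scheme.{0}} [X'.Over An.SC] (i : X' ⟶ X) [i.IsOver An.SC]
    (φ : C(An.Pts X, An.Pts Y)) (hφ : An.IsHolMap φ) :
    An.IsHolMap (φ.comp (An.Pts.mapC i)) := by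
  refine isHolMap_of_holMapAt fun x => ⟨(φ.comp (An.Pts.mapC i)).continuous.continuousAt,
    fun ψ hψ => ?_⟩
  exact ChartAt.comp_map i ((holMapAt_of_isHolMap hφ (An.Pts.map i x)).chartAt ψ hψ)

/-- A piece of the graph: the part over an integral closed subscheme. -/
lemma exists_piece [IsProper (X ↘ An.SC)] [IsProper (Y ↘ An.SC)]
    (φ : C(An.Pts X, An.Pts Y)) (hφ : An.IsHolMap φ) (y : X) :
    ∃ Z : Set ↥(Limits.pullback (X ↘ An.SC) (Y ↘ An.SC)), IsClosed Z ∧
      ∀ z : An.Pts (Limits.pullback (X ↘ An.SC) (Y ↘ An.SC)), z.pt ∈ Z ↔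
        ((An.Pts.map (Limits.pullback.fst (X ↘ An.SC) (Y ↘ An.SC)) z).pt ∈ closure {y} ∧
        φ (An.Pts.map (Limits.pullback.fst (X ↘ An.SC) (Y ↘ An.SC)) z) =
          An.Pts.map (Limits.pullback.snd (X ↘ An.SC) (Y ↘ An.SC)) z) := by
  obtain ⟨X', i, hi, hint, -, hrange⟩ := Groth.Agent.Fga.IntegralSub.exists_integral_closed y
  let _ : X'.Over An.SC := ⟨i ≫ (X ↘ An.SC)⟩
  have hio : i.IsOver An.SC := ⟨rfl⟩
  have : IsProper (X' ↘ An.SC) := by
    change IsProper (i ≫ (X ↘ An.SC))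
    infer_instance
  obtain ⟨Z', hZ', hZ''⟩ := exists_closed (φ.comp (An.Pts.mapC i)) (isHolMap_comp_mapC i φ hφ)
  let m : Limits.pullback (X' ↘ An.SC) (Y ↘ An.SC) ⟶ Limits.pullback (X ↘ An.SC) (Y ↘ An.SC) :=
    Limits.pullback.lift (Limits.pullback.fst (X' ↘ An.SC) (Y ↘ An.SC) ≫ i)
      (Limits.pullback.snd (X' ↘ An.SC) (Y ↘ An.SC)) (by
        rw [Category.assoc]
        exact Limits.pullback.condition)
  have hm1 : m ≫ Limits.pullback.fst (X ↘ An.SC) (Y ↘ An.SC) =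
      Limits.pullback.fst (X' ↘ An.SC) (Y ↘ An.SC) ≫ i := Limits.pullback.lift_fst _ _ _
  have hm2 : m ≫ Limits.pullback.snd (X ↘ An.SC) (Y ↘ An.SC) =
      Limits.pullback.snd (X' ↘ An.SC) (Y ↘ An.SC) := Limits.pullback.lift_snd _ _ _
  have hmo : m.IsOver An.SC := ⟨by
    change m ≫ Limits.pullback.fst (X ↘ An.SC) (Y ↘ An.SC) ≫ (X ↘ An.SC) =
      Limits.pullback.fst (X' ↘ An.SC) (Y ↘ An.SC) ≫ (i ≫ (X ↘ An.SC))
    rw [reassoc_of% hm1]⟩
  have hmp : IsProper m := by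
    have h1 : IsProper (m ≫ (Limits.pullback (X ↘ An.SC) (Y ↘ An.SC) ↘ An.SC)) := by
      rw [comp_over m]
      change IsProper (Limits.pullback.fst (X' ↘ An.SC) (Y ↘ An.SC) ≫ X' ↘ An.SC)
      infer_instance
    have h2 : IsSeparated (Limits.pullback (X ↘ An.SC) (Y ↘ An.SC) ↘ An.SC) := by
      change IsSeparated (Limits.pullback.fst (X ↘ An.SC) (Y ↘ An.SC) ≫ X ↘ An.SC)
      infer_instance
    exact IsProper.of_comp m (Limits.pullback (X ↘ An.SC) (Y ↘ An.SC) ↘ An.SC)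
  have hf : ∀ w, An.Pts.map (Limits.pullback.fst (X ↘ An.SC) (Y ↘ An.SC)) (An.Pts.map m w) =
      An.Pts.map i (An.Pts.map (Limits.pullback.fst (X' ↘ An.SC) (Y ↘ An.SC)) w) := fun w =>
    Subtype.ext (by
      change (w.1 ≫ m) ≫ _ = (w.1 ≫ _) ≫ i
      rw [Category.assoc, Category.assoc, hm1])
  have hs : ∀ w, An.Pts.map (Limits.pullback.snd (X ↘ An.SC) (Y ↘ An.SC)) (An.Pts.map m w) =
      An.Pts.map (Limits.pullback.snd (X' ↘ An.SC) (Y ↘ An.SC)) w := fun w =>
    Subtype.ext (by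
      change (w.1 ≫ m) ≫ _ = w.1 ≫ _
      rw [Category.assoc, hm2])
  refine ⟨m '' Z', m.isClosedMap Z' hZ', fun z => ⟨?_, ?_⟩⟩
  · rintro ⟨w, hw, hwz⟩
    have hcl : IsClosed (Z' ∩ m ⁻¹' {z.pt}) :=
      hZ'.inter ((isClosed_pt z).preimage m.continuous)
    obtain ⟨z', hz', hz''⟩ := exists_pt_mem_of_isClosed hcl ⟨w, hw, hwz⟩
    have hzz : An.Pts.map m z' = z := pt_injective (by rw [An.Pts.pt_map]; exact hz'')
    have h1 := (hZ'' z').1 hz'
    rw [← hzz, hf, hs]
    refine ⟨?_, h1⟩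
    rw [← hrange, An.Pts.pt_map]
    exact ⟨_, rfl⟩
  · rintro ⟨h1, h2⟩
    rw [← hrange] at h1
    obtain ⟨x', hx'⟩ : An.Pts.map (Limits.pullback.fst (X ↘ An.SC) (Y ↘ An.SC)) z ∈
        Set.range (An.Pts.map i) := by
      rw [Groth.Agent.An.H871.Surj.range_map i]
      exact h1
    let w := pair x' (An.Pts.map (Limits.pullback.snd (X ↘ An.SC) (Y ↘ An.SC)) z)
    have hw : An.Pts.map m w = z := by
      apply pts_prod_ext
      · rw [hf, map_fst_pair, hx']
      · rw [hs, map_snd_pair]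
    refine ⟨w.pt, (hZ'' w).2 ?_, ?_⟩
    · rw [map_fst_pair, map_snd_pair, ← h2, ← hx']
      rfl
    · rw [← An.Pts.pt_map, hw]

/-- **The graph of a holomorphic map between proper schemes is Zariski closed.** -/
theorem exists_closed' [IsProper (X ↘ An.SC)] [IsProper (Y ↘ An.SC)]
    (φ : C(An.Pts X, An.Pts Y)) (hφ : An.IsHolMap φ) :
    ∃ Z : Set ↥(Limits.pullback (X ↘ An.SC) (Y ↘ An.SC)), IsClosed Z ∧
      ∀ z : An.Pts (Limits.pullback (X ↘ An.SC) (Y ↘ An.SC)), z.pt ∈ Z ↔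
        φ (An.Pts.map (Limits.pullback.fst (X ↘ An.SC) (Y ↘ An.SC)) z) =
          An.Pts.map (Limits.pullback.snd (X ↘ An.SC) (Y ↘ An.SC)) z := by
  classical
  have hXn : IsLocallyNoetherian X := Groth.Agent.An.H877.Sep.isLocallyNoetherian X
  have hXc : CompactSpace X := by
    have : CompactSpace An.SC := inferInstanceAs (CompactSpace (Spec (CommRingCat.of ℂ)))
    exact QuasiCompact.compactSpace_of_compactSpace (X ↘ An.SC)
  have hXN : IsNoetherian X := {}
  have hfin : (irreducibleComponents X).Finite := TopologicalSpace.NoetherianSpace.finite_irreducibleComponents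
  have key : ∀ T : irreducibleComponents X, ∃ y : X, closure {y} = (T : Set X) := fun T => by
    have h1 : IsIrreducible (T : Set X) := T.2.1
    have h2 : IsClosed (T : Set X) := isClosed_of_mem_irreducibleComponents _ T.2
    exact ⟨h1.genericPoint, by
      have := h1.isGenericPoint_genericPoint_closure
      rw [IsGenericPoint, h2.closure_eq] at this
      exact this⟩
  choose y hy using key
  choose Z hZ hZ' using fun T => exists_piece φ hφ (y T)
  have : Finite (irreducibleComponents X) := hfin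
  refine ⟨⋃ T, Z T, isClosed_iUnion_of_finite hZ, fun z => ?_⟩
  rw [Set.mem_iUnion]
  constructor
  · rintro ⟨T, hT⟩
    exact ((hZ' T z).1 hT).2
  · intro h
    have h1 : (An.Pts.map (Limits.pullback.fst (X ↘ An.SC) (Y ↘ An.SC)) z).pt ∈
        ⋃₀ irreducibleComponents X := by
      rw [sUnion_irreducibleComponents]; trivial
    obtain ⟨T, hT, hzT⟩ := h1
    refine ⟨⟨T, hT⟩, (hZ' _ z).2 ⟨?_, h⟩⟩
    rw [hy]
    exact hzT

end Groth.Agent.Gaga.H978.Graph3
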