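import Groth.Agent.Gaga.H978.CurveAlg
import Groth.Agent.Gaga.H66.SepAlg

/-!
# A holomorphic map is algebraic in etale coordinates
-/

set_option autoImplicit false
set_option linter.dupNamespace false
open CategoryTheory AlgebraicGeometry Topology TopologicalSpace Opposite Filter

namespace Groth.Agent.Gaga.H978.LocalAlg

open Groth.Agent.An.H863.PtsBasic Groth.Agent.An.H863.PtsCont Groth.Agent.Gaga.H978.HMap
  Groth.Agent.Gaga.H990.ChartAt Groth.Agent.Gaga.H978.HolAt Groth.Agent.Gaga.H978.Ident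

variable {X Y : Scheme.{0}} [X.Over An.SC] [Y.Over An.SC]

/-- Evaluation of polynomials in the coordinates. -/
lemma evHom_comp {n : ℕ} {U : X.Opens} (π : MvPolynomial (Fin n) ℂ →+* Γ(X, U))
    (hπ : π.comp MvPolynomial.C = strU U) (x : An.Pts X) (hx : x.pt ∈ U) (z : Fin n → ℂ)
    (hz : ∀ i, evAt x U (π (MvPolynomial.X i)) = z i) :
    (evHom x U hx).comp π = MvPolynomial.eval z := by
  refine MvPolynomial.ringHom_ext (fun c => ?_) fun i => ?_
  · have h1 : π (MvPolynomial.C c) = strU U c := by rw [← hπ]; rfl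
    rw [RingHom.comp_apply, h1, MvPolynomial.eval_C, evHom_apply, ev_strU]
  · rw [RingHom.comp_apply, MvPolynomial.eval_X, evHom_apply, ← hz i, evAt_of_mem hx]

lemma eval_relation {n : ℕ} {U : X.Opens} (π : MvPolynomial (Fin n) ℂ →+* Γ(X, U))
    (hπ : π.comp MvPolynomial.C = strU U) (x : An.Pts X) (hx : x.pt ∈ U) (z : Fin n → ℂ)
    (hz : ∀ i, evAt x U (π (MvPolynomial.X i)) = z i) {g : Γ(X, U)}
    {Q : Polynomial (MvPolynomial (Fin n) ℂ)} (hQ : Q.eval₂ π g = 0) :
    (Q.map (MvPolynomial.eval z)).eval (evAt x U g) = 0 := by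
  rw [Polynomial.eval_map, ← evHom_comp π hπ x hx z hz, evAt_of_mem hx, ← evHom_apply,
    ← Polynomial.hom_eval₂, hQ, map_zero]

/-- **Local algebraicity**: in etale coordinates, the regular functions on `Y` composed with a
holomorphic map `X(ℂ) → Y(ℂ)` are algebraic functions. -/
theorem local_alg [IsProper (X ↘ An.SC)] (φ : C(An.Pts X, An.Pts Y)) (hφ : An.IsHolMap φ)
    {n : ℕ} (U : X.Opens) (hU : IsAffineOpen U) (π : MvPolynomial (Fin n) ℂ →+* Γ(X, U))
    (hπ : π.comp MvPolynomial.C = strU U)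
    (hrel : ∀ g : Γ(X, U), ∃ (Q : Polynomial (MvPolynomial (Fin n) ℂ)) (m : ℕ),
      Q.eval₂ π g = 0 ∧ IsUnit (π (Q.coeff m)))
    (c : (Fin n → ℂ) → An.Pts X) (D : Fin n → Set ℂ) (hD : ∀ i, IsOpen (D i))
    (hDc : ∀ i, Convex ℝ (D i)) (hne : ∀ i, (D i).Nonempty)
    (hcU : ∀ z ∈ Set.pi Set.univ D, (c z).pt ∈ U)
    (hcoord : ∀ z ∈ Set.pi Set.univ D, ∀ i, evAt (c z) U (π (MvPolynomial.X i)) = z i)
    (hc : ∀ z ∈ Set.pi Set.univ D, HolAt c z)
    (V : Y.Opens) (hV : ∀ z ∈ Set.pi Set.univ D, (φ (c z)).pt ∈ V) (y : Γ(Y, V)) :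
    ∃ P : Polynomial (MvPolynomial (Fin n) ℂ), P ≠ 0 ∧
      ∀ z ∈ Set.pi Set.univ D, (P.map (MvPolynomial.eval z)).eval (evAt (φ (c z)) V y) = 0 := by
  classical
  refine Groth.Agent.Gaga.H66.SepAlg.sepAlg D hD hDc hne (fun z => evAt (φ (c z)) V y) ?_ ?_
  · intro z hz
    exact (((hc z hz).comp_holMapAt (holMapAt_of_isHolMap hφ _)).evAt (hV z hz)
      y).differentiableWithinAt
  · intro i z hz
    have hup : ∀ w ∈ D i, Function.update z i w ∈ Set.pi Set.univ D := by
      intro w hw j _
      by_cases hj : j = i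
      · subst hj; simpa using hw
      · rw [Function.update_of_ne hj]; exact hz j trivial
    have hdiff : ∀ w : ℂ, DifferentiableAt ℂ (fun w => Function.update z i w) w := by
      intro w
      rw [differentiableAt_pi]
      intro j
      by_cases hj : j = i
      · subst hj; simp
      · simp [Function.update_of_ne hj]
    let s : ℂ → An.Pts X := fun w => c (Function.update z i w)
    have hs : HolOn s (D i) := holOn_of_holAt fun w hw => (hc _ (hup w hw)).comp_diff (hdiff w)
    refine CurveAlg.curve_alg φ hφ (D i) (hD i) (hDc i) (hne i) s hs U hU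
      (fun w hw => hcU _ (hup w hw)) (π (MvPolynomial.X i)) ?_ ?_ V y fun w hw => hV _ (hup w hw)
    · intro w hw
      rw [hcoord _ (hup w hw) i, Function.update_self]
    · intro g
      obtain ⟨Q, m, hQ, hm⟩ := hrel g
      let lam : MvPolynomial (Fin n) ℂ →+* Polynomial ℂ :=
        MvPolynomial.eval₂Hom Polynomial.C (Function.update (fun j => Polynomial.C (z j)) i Polynomial.X)
      have hlam : ∀ w, (Polynomial.evalRingHom w).comp lam =
          MvPolynomial.eval (Function.update z i w) := by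
        intro w
        refine MvPolynomial.ringHom_ext (fun c => ?_) fun j => ?_
        · simp [lam]
        · by_cases hj : j = i
          · subst hj; simp [lam]
          · simp [lam, Function.update_of_ne hj]
      refine ⟨Q.map lam, ?_, fun w hw => ?_⟩
      · intro h0
        obtain ⟨w, hw⟩ := hne i
        have h1 : lam (Q.coeff m) = 0 := by
          rw [← Polynomial.coeff_map, h0, Polynomial.coeff_zero]
        have h2 : MvPolynomial.eval (Function.update z i w) (Q.coeff m) = 0 := by
          rw [← hlam w, RingHom.comp_apply, h1, map_zero]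
        rw [← evHom_comp π hπ _ (hcU _ (hup w hw)) _ (hcoord _ (hup w hw)), RingHom.comp_apply] at h2
        exact (hm.map (evHom (c (Function.update z i w)) U (hcU _ (hup w hw)))).ne_zero h2
      · rw [Polynomial.map_map, hlam w]
        exact eval_relation π hπ _ (hcU _ (hup w hw)) _ (hcoord _ (hup w hw)) hQ

end Groth.Agent.Gaga.H978.LocalAlg
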